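import Mathlib.LinearAlgebra.Span.Basic
import Mathlib.SetTheory.Cardinal.Order
import Mathlib.SetTheory.Cardinal.Basic

/-!
# Avoiding few submodules by scalars with regular differences
-/

set_option autoImplicit false

universe u v w

namespace Groth.Agent.Small70

variable {R : Type u} [CommRing R] {M : Type v} [AddCommGroup M] [Module R M] {ι : Type w}

/-- Finitely many proper submodules do not cover, given enough scalars with cancellable differences. -/
theorem exists_avoid [DecidableEq ι] (W : ι → Submodule R M) (s : Finset ι) (hne : ∀ i ∈ s, ∃ m, m ∉ W i)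
    {κ : Type u} (c : κ → R) (hc : ∀ i ∈ s, ∀ a b : κ, a ≠ b → ∀ m, (c a - c b) • m ∈ W i → m ∈ W i)
    (hcard : (s.card : Cardinal) ≤ Cardinal.mk κ) : ∃ m, ∀ i ∈ s, m ∉ W i := by
  classical
  induction s using Finset.induction with
  | empty => exact ⟨0, by simp⟩
  | insert i₀ s hi₀ ih =>
    have hcard' : (s.card : Cardinal) ≤ Cardinal.mk κ :=
      le_trans (by gcongr; exact Finset.subset_insert i₀ s) hcard
    obtain ⟨v, hv⟩ := ih (fun i hi => hne i (Finset.mem_insert_of_mem hi))
      (fun i hi => hc i (Finset.mem_insert_of_mem hi)) hcard'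
    by_cases hv0 : v ∈ W i₀
    swap
    · exact ⟨v, Finset.forall_mem_insert _ _ _ |>.mpr ⟨hv0, hv⟩⟩
    obtain ⟨w, hw⟩ := hne i₀ (Finset.mem_insert_self _ _)
    by_contra hno
    push Not at hno
    choose f hf hfW using fun a : κ => hno (w + c a • v)
    have hfne : ∀ a, f a ≠ i₀ := fun a h =>
      hw ((Submodule.add_mem_iff_left _ (Submodule.smul_mem _ (c a) hv0)).mp (h ▸ hfW a))
    have hfs : ∀ a, f a ∈ s := fun a => (Finset.mem_insert.mp (hf a)).resolve_left (hfne a)
    have hinj : Function.Injective (fun a => (⟨f a, hfs a⟩ : s)) := by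
      intro a b hab
      by_contra hne'
      have hab' : f a = f b := congrArg Subtype.val hab
      have h1 := sub_mem (hfW a) (hab' ▸ hfW b)
      rw [add_sub_add_left_eq_sub, ← sub_smul] at h1
      exact hv _ (hfs a) (hc _ (hf a) a b hne' _ h1)
    have h2 : Cardinal.mk κ ≤ (s.card : Cardinal) := by
      have := Cardinal.lift_mk_le'.mpr ⟨⟨_, hinj⟩⟩
      simpa using this
    have h3 := hcard.trans h2
    rw [Finset.card_insert_of_notMem hi₀] at h3
    have : s.card + 1 ≤ s.card := by simpa using h3
    omega

end Groth.Agent.Small70
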