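import Mathlib.FieldTheory.SeparableClosure
import Mathlib.FieldTheory.IsAlgClosed.Basic
import Mathlib.FieldTheory.Perfect
import Mathlib.Algebra.CharP.Algebra

/-!
# Separability over the field of `p^e`-th roots
-/

set_option autoImplicit false

universe u

open Polynomial

noncomputable section

namespace Groth.Agent.Small70

variable {k : Type u} [Field k] (p : ℕ) [Fact p.Prime] [CharP k p]
  {Ω : Type u} [Field Ω] [Algebra k Ω] [IsAlgClosed Ω] (e : ℕ)

variable (k Ω) in
/-- The field of `p^e`-th roots. -/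
abbrev rootField : IntermediateField k Ω :=
  IntermediateField.adjoin k {y : Ω | y ^ (p ^ e) ∈ Set.range (algebraMap k Ω)}

theorem charP_top (k : Type u) [Field k] [CharP k p] [Algebra k Ω] : CharP Ω p :=
  charP_of_injective_algebraMap (algebraMap k Ω).injective p

theorem exists_root_equiv :
    ∃ θ : k →+* rootField k p Ω e, Function.Surjective θ ∧
      ∀ c, ((θ c : rootField k p Ω e) : Ω) ^ (p ^ e) = algebraMap k Ω c := by
  haveI := charP_top (Ω := Ω) p k
  let r : k →+* Ω := ((iterateFrobeniusEquiv Ω p e).symm : Ω →+* Ω).comp (algebraMap k Ω)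
  have hr : ∀ c, r c ^ (p ^ e) = algebraMap k Ω c := fun c => by
    rw [← iterateFrobenius_def (R := Ω) p e, ← coe_iterateFrobeniusEquiv]
    exact (iterateFrobeniusEquiv Ω p e).apply_symm_apply _
  have hmem : ∀ c, r c ∈ rootField k p Ω e := fun c =>
    IntermediateField.subset_adjoin k _ ⟨c, (hr c).symm⟩
  refine ⟨r.codRestrict _ hmem, fun y => ?_, hr⟩
  suffices h : ∀ z ∈ rootField k p Ω e, z ∈ r.fieldRange by
    obtain ⟨c, hc⟩ := h y.1 y.2
    exact ⟨c, Subtype.ext hc⟩
  intro z hz
  induction hz using IntermediateField.adjoin_induction with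
  | mem z hz =>
    obtain ⟨c, hc⟩ := hz
    exact ⟨c, iterateFrobenius_inj Ω p e (by rw [iterateFrobenius_def, iterateFrobenius_def, hr, hc])⟩
  | algebraMap c => exact ⟨c ^ (p ^ e), iterateFrobenius_inj Ω p e (by
      rw [iterateFrobenius_def, iterateFrobenius_def, hr, map_pow])⟩
  | add x y _ _ hx hy => exact add_mem hx hy
  | inv x _ hx => exact inv_mem hx
  | mul x y _ _ hx hy => exact mul_mem hx hy

theorem isSeparable_rootField_iff (x : Ω) :
    IsSeparable (rootField k p Ω e) x ↔ IsSeparable k (x ^ (p ^ e)) := by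
  haveI := charP_top (Ω := Ω) p k
  obtain ⟨θ, hsurj, hθ⟩ := exists_root_equiv (k := k) (Ω := Ω) p e
  have heval : ∀ g : k[X], (aeval x (g.map θ)) ^ (p ^ e) = aeval (x ^ (p ^ e)) g := fun g => by
    rw [← iterateFrobenius_def (R := Ω) p e, aeval_def, eval₂_map, hom_eval₂, aeval_def,
      iterateFrobenius_def]
    congr 1
    exact RingHom.ext fun c => (iterateFrobenius_def p e _).trans (hθ c)
  constructor
  · intro h
    obtain ⟨g, hg⟩ := Polynomial.map_surjective θ hsurj (minpoly (rootField k p Ω e) x)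
    have h1 : g.Separable := (Polynomial.separable_map θ).mp (hg ▸ h)
    refine h1.of_dvd (minpoly.dvd k _ ?_)
    rw [← heval, hg, minpoly.aeval, zero_pow (pow_ne_zero _ (Fact.out : p.Prime).ne_zero)]
  · intro h
    refine ((Polynomial.separable_map θ).mpr h).of_dvd (minpoly.dvd _ _ ?_)
    refine eq_zero_of_pow_eq_zero (n := p ^ e) ?_
    rw [heval, minpoly.aeval]

end Groth.Agent.Small70

end
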