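import Mathlib.Data.Nat.Choose.Sum
import Mathlib.Algebra.Algebra.Rat
import Mathlib.Tactic

/-!
# The sequence `y^k / k!`
-/

set_option autoImplicit false

namespace Groth.Agent.Small70

variable {R : Type*} [CommRing R] [Algebra ℚ R]

theorem mul_eq_choose (y : R) (c : ℕ → R) (hc : ∀ k : ℕ, c k = ((Nat.factorial k : ℚ)⁻¹) • y ^ k)
    (i j : ℕ) : c i * c j = ((i + j).choose i : R) * c (i + j) := by
  rw [hc, hc, hc, smul_mul_smul_comm, ← pow_add, ← map_natCast (algebraMap ℚ R) ((i + j).choose i),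
    ← Algebra.smul_def, smul_smul]
  congr 1
  rw [Nat.cast_add_choose]
  have := Nat.factorial_ne_zero (i + j)
  field_simp

theorem altSum_eq_self (y : R) (c : ℕ → R) (hc : ∀ k : ℕ, c k = ((Nat.factorial k : ℚ)⁻¹) • y ^ k)
    (k : ℕ) (hk : 2 ≤ k) :
    (∑ i ∈ Finset.Ico 1 k, (-1 : R) ^ (i - 1) * c i * c (k - i)) + (-1 : R) ^ (k - 1) * c k = c k := by
  have h : ∀ i ∈ Finset.Ico 1 k, (-1 : R) ^ (i - 1) * c i * c (k - i) =
      -(((-1 : R) ^ i * (k.choose i : R)) * c k) := fun i hi => by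
    obtain ⟨h1, h2⟩ := Finset.mem_Ico.mp hi
    obtain ⟨j, rfl⟩ := Nat.exists_eq_add_of_le h1
    rw [mul_assoc, mul_eq_choose y c hc, Nat.add_sub_cancel' h2.le, Nat.add_sub_cancel_left, pow_add]
    ring
  rw [Finset.sum_congr rfl h, Finset.sum_neg_distrib, ← Finset.sum_mul]
  have hz : (∑ i ∈ Finset.range (k + 1), (-1 : R) ^ i * (k.choose i : R)) = 0 := by
    have := congrArg (Int.cast : ℤ → R) (Int.alternating_sum_range_choose_of_ne (n := k) (by omega))
    simpa using this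
  rw [Finset.sum_range_succ, Finset.range_eq_Ico, Finset.sum_eq_sum_Ico_succ_bot (by omega : 0 < k)] at hz
  simp only [Nat.choose_zero_right, Nat.choose_self, Nat.cast_one, mul_one, pow_zero, zero_add] at hz
  obtain ⟨j, rfl⟩ := Nat.exists_eq_add_of_le (by omega : 1 ≤ k)
  rw [Nat.add_sub_cancel_left]
  rw [pow_add (-1 : R) 1 j, pow_one] at hz
  linear_combination (-(c (1 + j))) * hz

theorem pow_mul_pow_eq (θ η : R) (g : ℕ) (c : ℕ → R)
    (hc : ∀ k : ℕ, c k = ((Nat.factorial k : ℚ)⁻¹) • ((4 : R) * θ) ^ k) (hθ : θ ^ (g + 1) = 0)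
    (hrel : η ^ (g + 1) = ∑ i ∈ Finset.Ico 1 (g + 2), (-1 : R) ^ (i - 1) * c i * η ^ (g + 1 - i))
    (k : ℕ) (hk1 : 1 ≤ k) (hkg : k ≤ g) :
    η ^ (g + k) * θ ^ (g - k) = c k * η ^ g * θ ^ (g - k) := by
  induction k using Nat.strong_induction_on with
  | _ k ih =>
    have hth : ∀ i, ∃ q : R, c i = q * θ ^ i := fun i =>
      ⟨((Nat.factorial i : ℚ)⁻¹) • (4 : R) ^ i, by rw [hc, mul_pow, smul_mul_assoc]⟩
    have hzero : ∀ i, k < i → c i * θ ^ (g - k) = 0 := fun i hi => by
      obtain ⟨q, hq⟩ := hth i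
      rw [hq, mul_assoc, ← pow_add, show i + (g - k) = (g + 1) + (i - k - 1) by omega, pow_add, hθ]
      simp
    have hsum : η ^ (g + k) * θ ^ (g - k) =
        ∑ i ∈ Finset.Ico 1 (k + 1), (-1 : R) ^ (i - 1) * (c i * η ^ (g + k - i) * θ ^ (g - k)) := by
      rw [show g + k = (g + 1) + (k - 1) by omega, pow_add, hrel, Finset.sum_mul, Finset.sum_mul]
      rw [← Finset.sum_subset (Finset.Ico_subset_Ico_right (by omega : k + 1 ≤ g + 2))]
      · refine Finset.sum_congr rfl fun i hi => ?_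
        obtain ⟨h1, h2⟩ := Finset.mem_Ico.mp hi
        rw [show g + 1 + (k - 1) - i = (g + 1 - i) + (k - 1) by omega, pow_add]
        ring
      · intro i hi hni
        simp only [Finset.mem_Ico, not_and, not_lt] at hi hni
        have := hzero i (hni hi.1)
        linear_combination ((-1 : R) ^ (i - 1) * η ^ (g + 1 - i) * η ^ (k - 1)) * this
    have hterm : ∀ i ∈ Finset.Ico 1 k, c i * η ^ (g + k - i) * θ ^ (g - k) =
        c i * c (k - i) * η ^ g * θ ^ (g - k) := fun i hi => by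
      obtain ⟨h1, h2⟩ := Finset.mem_Ico.mp hi
      obtain ⟨q, hq⟩ := hth i
      have e := ih (k - i) (by omega) (by omega) (by omega)
      rw [show g + (k - i) = g + k - i by omega, show g - (k - i) = i + (g - k) by omega, pow_add] at e
      rw [hq]
      linear_combination q * e
    rw [hsum, Finset.sum_Ico_succ_top hk1, Nat.add_sub_cancel,
      Finset.sum_congr rfl (fun i hi => congrArg ((-1 : R) ^ (i - 1) * ·) (hterm i hi))]
    rcases Nat.lt_or_ge k 2 with h | h
    · obtain rfl : k = 1 := by omega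
      simp
    · calc _ = ((∑ i ∈ Finset.Ico 1 k, (-1 : R) ^ (i - 1) * c i * c (k - i)) + (-1 : R) ^ (k - 1) * c k) *
            (η ^ g * θ ^ (g - k)) := by
            rw [add_mul, Finset.sum_mul]
            refine congrArg₂ (· + ·) (Finset.sum_congr rfl fun i _ => by ring) (by ring)
        _ = _ := by rw [altSum_eq_self _ c hc k h, mul_assoc]

end Groth.Agent.Small70
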