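import Groth.Prelude.Def_PolLaw
import Groth.Prelude.Def_FrobAlg
import Mathlib.Algebra.MvPolynomial.PDeriv
import Mathlib.RingTheory.MvPolynomial.Basic
import Mathlib.Algebra.MvPolynomial.Variables
import Mathlib.RingTheory.Localization.FractionRing
import Mathlib.RingTheory.Localization.Integer
import Mathlib.Algebra.Field.ZMod
import Mathlib.Algebra.CharP.Algebra
import Mathlib.RingTheory.Finiteness.Defs

/-!
# The Frobenius law of `k^{1/p}` over `k`
-/

set_option autoImplicit false

universe u

open TensorProduct

noncomputable section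

namespace Groth.Agent.Small70

section law

variable (p : ℕ) [Fact p.Prime] (k : Type u) [CommRing k] [CharP k p]

theorem natCast_p_eq_zero (S : Type u) [CommSemiring S] [Algebra k S] : (p : S) = 0 := by
  rw [← map_natCast (algebraMap k S), CharP.cast_eq_zero, map_zero]

theorem add_pow_p (S : Type u) [CommSemiring S] [Algebra k S] (x y : S) :
    (x + y) ^ p = x ^ p + y ^ p := by
  obtain ⟨r, hr⟩ := exists_add_pow_prime_eq (Fact.out : p.Prime) x y
  rw [hr, natCast_p_eq_zero p k S]
  ring

/-- `s ⊗ a ↦ s ^ p ⊗ a ^ p`. -/
def frobMap (S : Type u) [CommSemiring S] [Algebra k S] :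
    S ⊗[k] FrobAlg.Twist p k →+ S ⊗[k] k :=
  liftAddHom
    { toFun := fun s =>
        { toFun := fun a => (s ^ p) ⊗ₜ[k] (FrobAlg.toTwist p k).symm a
          map_zero' := by rw [map_zero, tmul_zero]
          map_add' := fun a b => by rw [map_add, tmul_add] }
      map_zero' := AddMonoidHom.ext fun a => by
        simp [zero_pow (Fact.out : p.Prime).ne_zero]
      map_add' := fun s t => AddMonoidHom.ext fun a => by
        simp [add_pow_p p k S, add_tmul] }
    fun c s a => by
      show ((c • s) ^ p) ⊗ₜ[k] (FrobAlg.toTwist p k).symm a =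
        (s ^ p) ⊗ₜ[k] (FrobAlg.toTwist p k).symm (c • a)
      rw [smul_pow, Algebra.smul_def c a, map_mul, FrobAlg.algebraMap_twist, RingEquiv.symm_apply_apply,
        ← smul_eq_mul, smul_tmul]

theorem frobMap_tmul (S : Type u) [CommSemiring S] [Algebra k S] (s : S) (a : FrobAlg.Twist p k) :
    frobMap p k S (s ⊗ₜ a) = (s ^ p) ⊗ₜ[k] (FrobAlg.toTwist p k).symm a := rfl

/-- The Frobenius law. -/
def frobLaw : FrobAlg.Twist p k →ₚₗ[k] k where
  toFun' S _ _ := frobMap p k S
  isCompat' {S} _ _ {S'} _ _ φ := by
    funext x
    simp only [Function.comp_apply]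
    induction x using TensorProduct.induction_on with
    | zero => simp
    | tmul s a => simp [frobMap_tmul]
    | add a b ha hb => rw [map_add, map_add, map_add, map_add, ha, hb]

/-- The Frobenius law as a multiplicative law. -/
def frobMulLaw : PolLaw.MulLaw k (FrobAlg.Twist p k) k p where
  law := frobLaw p k
  homog S _ _ s x := by
    show frobMap p k S (s • x) = s ^ p • frobMap p k S x
    induction x using TensorProduct.induction_on with
    | zero => simp
    | tmul t a => rw [smul_tmul', frobMap_tmul, frobMap_tmul, smul_tmul', smul_eq_mul, smul_eq_mul, mul_pow]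
    | add a b ha hb => rw [smul_add, map_add, map_add, ha, hb, smul_add]
  mult S _ _ := by
    refine ⟨?_, fun x y => ?_⟩
    · show frobMap p k S 1 = 1
      rw [Algebra.TensorProduct.one_def, frobMap_tmul, one_pow, map_one]
      rfl
    · show frobMap p k S (x * y) = frobMap p k S x * frobMap p k S y
      induction x using TensorProduct.induction_on with
      | zero => simp
      | add a b ha hb => rw [add_mul, map_add, map_add, ha, hb, add_mul]
      | tmul s a =>
        induction y using TensorProduct.induction_on with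
        | zero => simp
        | add c d hc hd => rw [mul_add, map_add, map_add, hc, hd, mul_add]
        | tmul t b =>
          simp [Algebra.TensorProduct.tmul_mul_tmul, frobMap_tmul, mul_pow, map_mul]

end law

open MvPolynomial in
theorem not_finite (p : ℕ) [Fact p.Prime] :
    ¬ Module.Finite (FractionRing (MvPolynomial ℕ (ZMod p)))
      (FrobAlg.Twist p (FractionRing (MvPolynomial ℕ (ZMod p)))) := by
  classical
  set P := MvPolynomial ℕ (ZMod p)
  set k := FractionRing P
  intro h
  obtain ⟨S, hS⟩ := h.fg_top
  let out : FrobAlg.Twist p k ≃+* k := (FrobAlg.toTwist p k).symm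
  obtain ⟨⟨Q, hQ⟩, hQS⟩ := IsLocalization.exist_integer_multiples_of_finset (nonZeroDivisors P) (S.image out)
  choose N hN using fun b : S => hQS (out b.1) (Finset.mem_image_of_mem out b.2)
  obtain ⟨n, hn⟩ := Finset.exists_notMem (Q.vars ∪ Finset.univ.biUnion fun b : S => (N b).vars)
  obtain ⟨cf, hcf⟩ := Submodule.mem_span_finset'.mp
    (hS.ge (Submodule.mem_top (x := FrobAlg.toTwist p k (algebraMap P k (X n)))))
  obtain ⟨⟨B, hB⟩, hBS⟩ := IsLocalization.exist_integer_multiples_of_finite (nonZeroDivisors P) cf
  choose M hM using hBS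
  have e1 : algebraMap P k (X n) = ∑ b : S, cf b ^ p * out b.1 := by
    have := congrArg out hcf
    rw [map_sum, RingEquiv.symm_apply_apply] at this
    rw [← this]
    exact Finset.sum_congr rfl fun b _ => by
      rw [Algebra.smul_def, map_mul, FrobAlg.algebraMap_twist, RingEquiv.symm_apply_apply]
  have hM' : ∀ b, algebraMap P k (M b) = algebraMap P k B * cf b := fun b => by
    rw [hM b, Algebra.smul_def]
  have hN' : ∀ b, algebraMap P k (N b) = algebraMap P k Q * out b.1 := fun b => by
    rw [hN b, Algebra.smul_def]
  have e2 : B ^ p * Q * X n = ∑ b : S, M b ^ p * N b := by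
    refine IsFractionRing.injective P k ?_
    simp only [map_mul, map_pow, map_sum, hM', hN', e1, Finset.mul_sum]
    exact Finset.sum_congr rfl fun b _ => by ring
  have hp0 : (p : P) = 0 := by
    rw [← map_natCast (C : ZMod p →+* P), ZMod.natCast_self, map_zero]
  have hpd : ∀ f : P, pderiv n (f ^ p) = 0 := fun f => by
    rw [Derivation.leibniz_pow, nsmul_eq_mul, hp0, zero_mul]
  have e3 := congrArg (pderiv n) e2
  simp only [map_sum, Derivation.leibniz, hpd, smul_zero, zero_add, pderiv_X_self, smul_eq_mul,
    mul_one, mul_zero, add_zero] at e3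
  rw [pderiv_eq_zero_of_notMem_vars (f := Q) (fun hm => hn (Finset.mem_union_left _ hm))] at e3
  rw [Finset.sum_eq_zero fun b _ => by
    rw [pderiv_eq_zero_of_notMem_vars (f := N b) (fun hm => hn (Finset.mem_union_right _
      (Finset.mem_biUnion.mpr ⟨b, Finset.mem_univ _, hm⟩))), mul_zero]] at e3
  simp only [mul_zero, add_zero] at e3
  exact mul_ne_zero (pow_ne_zero _ (nonZeroDivisors.ne_zero hB)) (nonZeroDivisors.ne_zero hQ) e3

end Groth.Agent.Small70

end
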